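import Cfsg.Agent.Lib.Involution.SEModule.Main
import Cfsg.Agent.S0205
import Cfsg.Prelude.Def_CaseTheorems

/-!
If all maximal `2`-local subgroups of a simple group are conjugate, one of them is strongly embedded; with the
structural form of Bender's theorem this identifies the group.
-/

set_option autoImplicit false
set_option linter.style.haveILetI false

namespace CfsgLib.Involution.OneMaxLocal

open Subgroup CfsgLib.Involution.SEModule

variable {G : Type*} [Group G] [Finite G]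

theorem exists_maximal_ge {X : Subgroup G} (hX : Cfsg.IsTwoLocal X) :
    ∃ M, Cfsg.IsMaximalTwoLocal M ∧ X ≤ M := by
  obtain ⟨M, ⟨hM, hXM⟩, hmax⟩ := Set.exists_max_image {N : Subgroup G | Cfsg.IsTwoLocal N ∧ X ≤ N}
    (fun N => Nat.card N) (Set.toFinite _) ⟨X, hX, le_rfl⟩
  exact ⟨M, ⟨hM, fun N hN hle => (eq_of_le_of_card_ge hle (hmax N ⟨hN, hXM.trans hle⟩)).symm⟩, hXM⟩

theorem even_card [IsSimpleGroup G] (hG : ¬ IsMulCommutative G) : 2 ∣ Nat.card G := by
  by_contra h
  have := Cfsg.Agent.S0205.result (G := G) (Nat.odd_iff.2 (by omega))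
  exact hG ⟨⟨IsSimpleGroup.comm_iff_isSolvable.2 this⟩⟩

/-- The main observation. -/
theorem exists_stronglyEmbedded [IsSimpleGroup G] (hG : ¬ IsMulCommutative G)
    (h1 : ∀ M M' : Subgroup G, Cfsg.IsMaximalTwoLocal M → Cfsg.IsMaximalTwoLocal M' →
      ∃ g : G, M' = M.map (MulAut.conj g).toMonoidHom) :
    ∃ H : Subgroup G, Cfsg.IsStronglyEmbedded H := by
  classical
  haveI : Fact (Nat.Prime 2) := ⟨Nat.prime_two⟩
  obtain ⟨S⟩ : Nonempty (Sylow 2 G) := inferInstance
  have hSne : (S : Subgroup G) ≠ ⊥ := S.ne_bot_of_dvd_card (even_card hG)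
  have hproper : ∀ X : Subgroup G, Cfsg.IsTwoLocal X → X ≠ ⊤ := by
    rintro X ⟨T, hT, hT1, rfl⟩ htop
    rw [normalizer_eq_top_iff] at htop
    rcases htop.eq_bot_or_eq_top with h | h
    · exact hT1 h
    · haveI : Group.IsNilpotent G :=
        (IsPGroup.of_equiv (h ▸ hT) Subgroup.topEquiv : IsPGroup 2 G).isNilpotent
      exact hG ⟨⟨IsSimpleGroup.comm_iff_isSolvable.2 inferInstance⟩⟩
  obtain ⟨M, hMmax, hNM⟩ := exists_maximal_ge (X := normalizer ((S : Subgroup G) : Set G)) ⟨S, S.2, hSne, rfl⟩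
  have hSM : (S : Subgroup G) ≤ M := le_normalizer.trans hNM
  -- `M` is the only maximal local containing `S`
  have move : ∀ g : G, (S : Subgroup G).map (MulAut.conj g).toMonoidHom ≤ M → g ∈ M := by
    intro g hg
    have hcoe : ((g • S : Sylow 2 G) : Subgroup G) = (S : Subgroup G).map (MulAut.conj g).toMonoidHom := by
      rw [Sylow.coe_subgroup_smul]; rfl
    obtain ⟨m, hm⟩ := MulAction.exists_smul_eq M ((g • S).subtype (hcoe ▸ hg)) (S.subtype hSM)
    rw [Sylow.smul_subtype] at hm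
    have h3 : ((m : G) * g) • S = S := by
      rw [mul_smul]
      exact Sylow.subtype_injective hm
    have h4 : (m : G) * g ∈ M := hNM (Sylow.smul_eq_iff_mem_normalizer.1 h3)
    simpa [← mul_assoc] using mul_mem (inv_mem m.2) h4
  have uniq : ∀ N : Subgroup G, Cfsg.IsMaximalTwoLocal N → (S : Subgroup G) ≤ N → N = M := by
    intro N hN hSN
    obtain ⟨g, rfl⟩ := h1 M N hMmax hN
    have hg : g⁻¹ ∈ M := move g⁻¹ (by
      rintro _ ⟨s, hs, rfl⟩
      obtain ⟨y, hy, hys⟩ := hSN hs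
      have : g⁻¹ * s * g⁻¹⁻¹ = y := by rw [← hys]; simp [mul_assoc]
      show g⁻¹ * s * g⁻¹⁻¹ ∈ M
      rw [this]; exact hy)
    exact mem_normalizer_iff_map_conj_eq.1 (le_normalizer (inv_mem_iff.1 hg))
  -- every maximal local containing a `2`-group lets it grow
  have grow : ∀ (N : Subgroup G) (T : Subgroup G), Cfsg.IsMaximalTwoLocal N → T ≤ N → IsPGroup 2 T →
      Nat.card T < Nat.card S → ∃ U : Subgroup G, IsPGroup 2 U ∧ U ≤ N ∧ U ≤ normalizer (T : Set G) ∧
        Nat.card T < Nat.card U := by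
    intro N T hN hTN hT hlt
    obtain ⟨g, rfl⟩ := h1 M N hMmax hN
    have hSg : ((g • S : Sylow 2 G) : Subgroup G) ≤ M.map (MulAut.conj g).toMonoidHom := by
      rw [Sylow.coe_subgroup_smul]
      exact map_mono hSM
    obtain ⟨P, hP⟩ := (hT.comap_of_injective _ (subtype_injective (M.map (MulAut.conj g).toMonoidHom))).exists_le_sylow
    have hPc : Nat.card P = Nat.card S := by
      obtain ⟨m, hm⟩ := MulAction.exists_smul_eq (M.map (MulAut.conj g).toMonoidHom) ((g • S).subtype hSg) P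
      rw [← hm, Sylow.card_eq_multiplicity, Sylow.card_eq_multiplicity]
      have h5 := ((g • S).subtype hSg).card_eq_multiplicity
      rw [Sylow.coe_subtype, Nat.card_congr (subgroupOfEquivOfLe hSg).toEquiv, Sylow.card_eq_multiplicity] at h5
      exact h5.symm
    have hP' : T.subgroupOf (M.map (MulAut.conj g).toMonoidHom) ≤ (P : Subgroup ↥(M.map (MulAut.conj g).toMonoidHom)) := hP
    set T' := (T.subgroupOf (M.map (MulAut.conj g).toMonoidHom)).subgroupOf
      (P : Subgroup ↥(M.map (MulAut.conj g).toMonoidHom)) with hT'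
    have hcT' : Nat.card T' = Nat.card T := by
      rw [hT', Nat.card_congr (subgroupOfEquivOfLe hP').toEquiv, Nat.card_congr (subgroupOfEquivOfLe hTN).toEquiv]
    haveI := P.2.isNilpotent
    have hT'top : T' < ⊤ := lt_top_iff_ne_top.2 fun h => by
      rw [h, card_top] at hcT'
      omega
    have hgrow : T' < normalizer (T' : Set ↥(P : Subgroup ↥(M.map (MulAut.conj g).toMonoidHom))) :=
      Group.normalizerCondition_of_isNilpotent T' hT'top
    set ι := (M.map (MulAut.conj g).toMonoidHom).subtype.comp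
      (P : Subgroup ↥(M.map (MulAut.conj g).toMonoidHom)).subtype with hι
    have hιi : Function.Injective ι := (subtype_injective _).comp (subtype_injective _)
    have hTmap : T'.map ι = T := by
      rw [hι, ← map_map, hT', map_subgroupOf_eq_of_le hP', map_subgroupOf_eq_of_le hTN]
    refine ⟨(normalizer (T' : Set ↥(P : Subgroup ↥(M.map (MulAut.conj g).toMonoidHom)))).map ι,
      (P.2.to_subgroup _).map ι, ?_, ?_, ?_⟩
    · rintro _ ⟨x, -, rfl⟩
      exact x.1.2
    · exact (le_normalizer_map ι).trans_eq (congrArg (fun K : Subgroup G => normalizer (K : Set G)) hTmap)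
    · rw [← hcT', card_map_of_injective hιi]
      by_contra hle
      exact hgrow.ne (eq_of_le_of_card_ge hgrow.le (not_lt.1 hle))
  have hN_self : ∀ g : G, M.map (MulAut.conj g).toMonoidHom = M → g ∈ M := fun g hg =>
    move g ((map_mono hSM).trans hg.le)
  have h2S : 2 ∣ Nat.card M := (S.dvd_card_of_dvd_card (even_card hG)).trans (card_dvd_of_le hSM)
  refine ⟨M, hproper M hMmax.1, even_iff_two_dvd.2 h2S, fun g hg => ?_⟩
  · by_contra hodd
    rw [Nat.not_odd_iff_even, even_iff_two_dvd] at hodd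
    obtain ⟨⟨x, hxM⟩, hx⟩ := exists_prime_orderOf_dvd_card' 2 hodd
    rw [orderOf_mk] at hx
    have hMg : Cfsg.IsMaximalTwoLocal (M.map (MulAut.conj g).toMonoidHom) := by
      obtain ⟨N, hN, hle⟩ := exists_maximal_ge (X := M.map (MulAut.conj g).toMonoidHom) (by
        obtain ⟨T, hT, hT1, hTM⟩ := hMmax.1
        exact ⟨T.map (MulAut.conj g).toMonoidHom, hT.map _,
          (map_eq_bot_iff_of_injective _ (MulAut.conj g).injective).not.2 hT1,
          by rw [hTM]; exact map_equiv_normalizer_eq T (MulAut.conj g)⟩)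
      obtain ⟨k, hk⟩ := h1 M N hMmax hN
      rw [eq_of_le_of_card_ge hle (by
        rw [hk, card_map_of_injective (MulAut.conj k).injective, card_map_of_injective (MulAut.conj g).injective])]
      exact hN
    obtain ⟨T, ⟨hT, M1, M2, hM1, hM2, hne, hT1, hT2, hTne⟩, hmax⟩ := Set.exists_max_image
      {T : Subgroup G | IsPGroup 2 T ∧ ∃ M1 M2 : Subgroup G, Cfsg.IsMaximalTwoLocal M1 ∧
        Cfsg.IsMaximalTwoLocal M2 ∧ M1 ≠ M2 ∧ T ≤ M1 ∧ T ≤ M2 ∧ T ≠ ⊥}
      (fun T => Nat.card T) (Set.toFinite _) ⟨zpowers x,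
        IsPGroup.of_card (n := 1) (by rw [Nat.card_zpowers, hx, pow_one]), M, _, hMmax, hMg,
        fun h => hg (hN_self g h.symm), zpowers_le.2 hxM.1, zpowers_le.2 hxM.2,
        fun h => by rw [zpowers_eq_bot] at h; rw [h, orderOf_one] at hx; omega⟩
    rcases Nat.lt_or_ge (Nat.card T) (Nat.card S) with hlt | hge
    · obtain ⟨M3, hM3, hN3⟩ := exists_maximal_ge (X := normalizer (T : Set G)) ⟨T, hT, hTne, rfl⟩
      have key : ∀ N : Subgroup G, Cfsg.IsMaximalTwoLocal N → T ≤ N → N = M3 := by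
        intro N hN hTN
        obtain ⟨U, hU, hUN, hUT, hTU⟩ := grow N T hN hTN hT hlt
        by_contra hne'
        have := hmax U ⟨hU, N, M3, hN, hM3, hne', hUN, hUT.trans hN3, fun h => by
          rw [h, card_bot] at hTU
          have := Nat.card_pos (α := T)
          omega⟩
        omega
      exact hne ((key M1 hM1 hT1).trans (key M2 hM2 hT2).symm)
    · obtain ⟨P, hP⟩ := hT.exists_le_sylow
      have hTP : T = (P : Subgroup G) := eq_of_le_of_card_ge hP (by
        rw [P.card_eq_multiplicity, ← S.card_eq_multiplicity]; exact hge)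
      obtain ⟨k, hk⟩ := MulAction.exists_smul_eq G S P
      have back : ∀ N : Subgroup G, Cfsg.IsMaximalTwoLocal N → T ≤ N → N = M.map (MulAut.conj k).toMonoidHom := by
        intro N hN hTN
        obtain ⟨l, rfl⟩ := h1 M N hMmax hN
        have hl : l⁻¹ * k ∈ M := move _ (by
          rintro _ ⟨s, hs, rfl⟩
          have hks : k * s * k⁻¹ ∈ T := by
            rw [hTP, ← hk, Sylow.coe_subgroup_smul]
            exact ⟨s, hs, rfl⟩
          obtain ⟨y, hy, hys⟩ := hTN hks
          show l⁻¹ * k * s * (l⁻¹ * k)⁻¹ ∈ M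
          have : l⁻¹ * k * s * (l⁻¹ * k)⁻¹ = y := by
            have h' : l * y * l⁻¹ = k * s * k⁻¹ := hys
            calc l⁻¹ * k * s * (l⁻¹ * k)⁻¹ = l⁻¹ * (k * s * k⁻¹) * l := by group
              _ = y := by rw [← h']; group
          rw [this]; exact hy)
        have hk' : k = l * (l⁻¹ * k) := by group
        conv_rhs => rw [hk', map_mul]
        rw [show (MulAut.conj l * MulAut.conj (l⁻¹ * k)).toMonoidHom =
          (MulAut.conj l).toMonoidHom.comp (MulAut.conj (l⁻¹ * k)).toMonoidHom from rfl, ← map_map,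
          show M.map (MulAut.conj (l⁻¹ * k)).toMonoidHom = M from mem_normalizer_iff_map_conj_eq.1 (le_normalizer hl)]
      exact hne ((back M1 hM1 hT1).trans (back M2 hM2 hT2).symm)

/-- The identification. -/
theorem classify [IsSimpleGroup G] (hG : ¬ IsMulCommutative G)
    (hB : (H : Subgroup G) → Cfsg.IsStronglyEmbedded H → BenderStructure G)
    (h1 : ∀ M M' : Subgroup G, Cfsg.IsMaximalTwoLocal M → Cfsg.IsMaximalTwoLocal M' →
      ∃ g : G, M' = M.map (MulAut.conj g).toMonoidHom) :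
    (∃ (F : Type) (_ : Field F) (_ : Fintype F) (n : ℕ), 2 ≤ n ∧ Fintype.card F = 2 ^ n ∧
        Nonempty (G ≃* Matrix.ProjectiveSpecialLinearGroup (Fin 2) F)) ∨
      Cfsg.Lie.IsoSuzuki G ∨
      (∃ (F : Type) (_ : Field F) (_ : Fintype F) (n : ℕ), 2 ≤ n ∧ Fintype.card F = (2 ^ n) ^ 2 ∧
        Nonempty (G ≃* Cfsg.PSU 3 F (2 ^ n))) := by
  classical
  haveI : Fact (Nat.Prime 2) := ⟨Nat.prime_two⟩
  obtain ⟨H, hH⟩ := exists_stronglyEmbedded hG h1
  obtain ⟨t, ht⟩ := exists_prime_orderOf_dvd_card' (G := G) 2 (even_card hG)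
  haveI : (Cfsg.pPrimeCore 2 G).Normal := CfsgLib.Solvable.Cores.pPrimeCore_normal 2
  have hcore : Cfsg.pPrimeCore 2 G = ⊥ := by
    rcases (inferInstance : (Cfsg.pPrimeCore 2 G).Normal).eq_bot_or_eq_top with h | h
    · exact h
    · have hc := CfsgLib.Solvable.Cores.coprime_card_pPrimeCore (G := G) 2
      rw [h, card_top] at hc
      exact absurd (Nat.eq_one_of_dvd_coprimes hc (even_card hG) dvd_rfl) (by norm_num)
  set L := Cfsg.pElementClosure 2 (⊤ : Subgroup (G ⧸ Cfsg.pPrimeCore 2 G)) with hL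
  have hLtop : L.comap (QuotientGroup.mk' (Cfsg.pPrimeCore 2 G)) = ⊤ := by
    have hn : (L.comap (QuotientGroup.mk' (Cfsg.pPrimeCore 2 G))).Normal := by
      haveI : L.Normal := ⟨fun x hx y => by
        have hle : L ≤ L.comap (MulAut.conj y).toMonoidHom := by
          rw [hL, Cfsg.pElementClosure, closure_le]
          rintro z ⟨-, j, hj⟩
          exact subset_closure ⟨mem_top _, j, by rw [← hj]; exact MulEquiv.orderOf_eq _ _⟩
        exact hle hx⟩
      infer_instance
    refine hn.eq_bot_or_eq_top.resolve_left fun h => ?_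
    have htm : t ∈ L.comap (QuotientGroup.mk' (Cfsg.pPrimeCore 2 G)) := by
      obtain ⟨j, -, hj⟩ := (Nat.dvd_prime_pow Nat.prime_two).1
        (((orderOf_map_dvd (QuotientGroup.mk' (Cfsg.pPrimeCore 2 G)) t).trans (dvd_of_eq ht)).trans (dvd_of_eq (pow_one 2).symm))
      exact subset_closure ⟨mem_top _, j, hj⟩
    rw [h, mem_bot] at htm
    rw [htm, orderOf_one] at ht
    omega
  let e : G ≃* ↥L := MulEquiv.ofBijective ((QuotientGroup.mk' (Cfsg.pPrimeCore 2 G)).codRestrict L
    (fun x => by rw [← mem_comap, hLtop]; exact mem_top x)) ⟨fun x y h => by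
      have h' := QuotientGroup.eq.1 (congrArg Subtype.val h)
      rw [hcore, mem_bot, inv_mul_eq_one] at h'
      exact h', fun y => by
      obtain ⟨x, hx⟩ := QuotientGroup.mk'_surjective _ (y : G ⧸ Cfsg.pPrimeCore 2 G)
      exact ⟨x, Subtype.ext hx⟩⟩
  rcases hB H hH with h | ⟨F, _, _, _, h4, ⟨e'⟩⟩ | ⟨F, _, _, q, hq, h4, hF, ⟨e'⟩⟩ | ⟨F, _, _, m, hm, hF, ⟨e'⟩⟩
  · exfalso
    obtain ⟨htop, -⟩ := h t ht
    rw [hcore, bot_sup_eq] at htop
    have hcen : t ∈ center G := mem_center_iff.2 fun g => mem_centralizer_singleton_iff.1 (htop ▸ mem_top g)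
    rcases (inferInstance : (center G).Normal).eq_bot_or_eq_top with h' | h'
    · rw [h', mem_bot] at hcen
      rw [hcen, orderOf_one] at ht
      omega
    · exact hG ⟨⟨fun a b => mem_center_iff.1 (h' ▸ mem_top b) a⟩⟩
  · left
    obtain ⟨n, -, hn⟩ := FiniteField.card F 2
    refine ⟨F, inferInstance, inferInstance, n, ?_, hn, ⟨(e.trans e').trans
      (MulEquiv.ofBijective (QuotientGroup.mk' _) ⟨?_, QuotientGroup.mk'_surjective _⟩)⟩⟩
    · by_contra hc
      have : 2 ^ (n : ℕ) ≤ 2 ^ 1 := Nat.pow_le_pow_right (by norm_num) (by omega)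
      omega
    · refine (injective_iff_map_eq_one _).2 fun g hg => ?_
      obtain ⟨r, hr, hr'⟩ := Matrix.SpecialLinearGroup.mem_center_iff.1 ((QuotientGroup.eq_one_iff g).1 hg)
      rw [Fintype.card_fin] at hr
      have hr1 : r = 1 := by
        have h0 : (r - 1) ^ 2 = 0 := by rw [CharTwo.sub_eq_add, CharTwo.add_sq, hr, one_pow, CharTwo.add_self_eq_zero]
        exact sub_eq_zero.1 (pow_eq_zero_iff two_ne_zero |>.1 h0)
      exact Subtype.ext (by rw [← hr', hr1, map_one]; rfl)
  · right; right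
    obtain ⟨n, rfl⟩ : ∃ n, q = 2 ^ n := by
      obtain ⟨p', hp'⟩ := CharP.exists F
      obtain ⟨l, hpp, hl⟩ := FiniteField.card F p'
      rw [hF] at hl
      have hp2 : p' = 2 := by
        have h1 : 2 ∣ p' ^ (l : ℕ) := hl ▸ dvd_pow hq.two_dvd two_ne_zero
        exact ((Nat.prime_dvd_prime_iff_eq Nat.prime_two hpp).1 (Nat.prime_two.dvd_of_dvd_pow h1)).symm
      obtain ⟨j, -, hj⟩ := (Nat.dvd_prime_pow hpp).1 (hl ▸ dvd_pow_self q two_ne_zero : q ∣ p' ^ (l : ℕ))
      exact ⟨j, hp2 ▸ hj⟩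
    refine ⟨F, inferInstance, inferInstance, n, ?_, hF, ⟨e.trans e'⟩⟩
    by_contra hc
    have : 2 ^ n ≤ 2 ^ 1 := Nat.pow_le_pow_right (by norm_num) (by omega)
    omega
  · exact Or.inr (Or.inl ⟨F, inferInstance, inferInstance, m, hm, hF, ⟨e.trans e'⟩⟩)

end CfsgLib.Involution.OneMaxLocal
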